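import Cfsg.Agent.AltSuborbit.Perm

/-!
Subgroups with an alternating quotient, and actions of subgroups on a set of `d` points.
-/

set_option autoImplicit false

namespace Cfsg.Lib.AltSuborbit

open Equiv

variable {G : Type*} [Group G]

/-- `S` has a quotient containing the alternating group of degree `d`. -/
def HasAlt (d : ℕ) (S : Subgroup G) : Prop :=
  ∃ f : S →* Perm (Fin d), alternatingGroup (Fin d) ≤ f.range

/-- A minimal subgroup with an alternating quotient. -/
def Min (d : ℕ) (S : Subgroup G) : Prop := HasAlt d S ∧ ∀ T < S, ¬ HasAlt d T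

/-- Conjugation by `g`, as a homomorphism. -/
abbrev cj (g : G) : G →* G := (MulAut.conj g).toMonoidHom

theorem cj_apply (g x : G) : cj g x = g * x * g⁻¹ := rfl

theorem cj_injective (g : G) : Function.Injective (cj g) := (MulAut.conj g).injective

theorem mem_map_cj {g x : G} {X : Subgroup G} : x ∈ X.map (cj g) ↔ g⁻¹ * x * g ∈ X := by
  rw [Subgroup.mem_map]
  constructor
  · rintro ⟨y, hy, rfl⟩
    simpa [cj_apply, mul_assoc] using hy
  · exact fun h => ⟨_, h, by simp [cj_apply, mul_assoc]⟩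

theorem cj_mem {g x : G} {X : Subgroup G} (hx : x ∈ X) : g * x * g⁻¹ ∈ X.map (cj g) := ⟨x, hx, rfl⟩

theorem map_cj_cj (g h : G) (X : Subgroup G) : (X.map (cj g)).map (cj h) = X.map (cj (h * g)) := by
  ext x
  rw [mem_map_cj, mem_map_cj, mem_map_cj]
  simp only [mul_inv_rev, mul_assoc]

theorem map_cj_one (X : Subgroup G) : X.map (cj (1 : G)) = X := by
  ext x
  rw [mem_map_cj, inv_one, one_mul, mul_one]

theorem le_normalizer_of {A X : Subgroup G} (h : ∀ a ∈ A, ∀ x ∈ X, a * x * a⁻¹ ∈ X) :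
    A ≤ Subgroup.normalizer (X : Set G) := by
  intro a ha
  rw [Subgroup.mem_normalizer_iff]
  refine fun x => ⟨h a ha x, fun hx => ?_⟩
  simpa [mul_assoc] using h a⁻¹ (inv_mem ha) _ hx

theorem conj_mem_of {A X : Subgroup G} (h : A ≤ Subgroup.normalizer (X : Set G)) {a x : G} (ha : a ∈ A)
    (hx : x ∈ X) : a * x * a⁻¹ ∈ X := (Subgroup.mem_normalizer_iff.1 (h ha) x).1 hx

theorem map_cj_of_normalizer {A X : Subgroup G} (h : A ≤ Subgroup.normalizer (X : Set G)) {a : G} (ha : a ∈ A) :
    X.map (cj a) = X := by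
  ext x
  rw [mem_map_cj]
  refine ⟨fun hx => ?_, fun hx => ?_⟩
  · simpa [mul_assoc] using conj_mem_of h ha hx
  · simpa [mul_assoc] using conj_mem_of h (inv_mem ha) hx

variable {d : ℕ}

theorem HasAlt.map_cj {S : Subgroup G} (h : HasAlt d S) (g : G) : HasAlt d (S.map (cj g)) := by
  obtain ⟨f, hf⟩ := h
  let e : S ≃* S.map (cj g) := S.equivMapOfInjective _ (cj_injective g)
  refine ⟨f.comp e.symm.toMonoidHom, fun σ hσ => ?_⟩
  obtain ⟨s, rfl⟩ := hf hσ
  exact ⟨e s, show f (e.symm (e s)) = f s by rw [e.symm_apply_apply]⟩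

theorem Min.map_cj {S : Subgroup G} (h : Min d S) (g : G) : Min d (S.map (cj g)) := by
  refine ⟨h.1.map_cj g, fun T hT hh => h.2 (T.map (cj g⁻¹)) ?_ (hh.map_cj _)⟩
  have h1 := Subgroup.map_lt_map_iff_of_injective (cj_injective g⁻¹) |>.2 hT
  rwa [map_cj_cj, inv_mul_cancel, map_cj_one] at h1

theorem HasAlt.exists_min [Finite G] {X : Subgroup G} (h : HasAlt d X) : ∃ S ≤ X, Min d S := by
  induction X using WellFoundedLT.induction with
  | _ X ih =>
    by_cases hm : ∃ T < X, HasAlt d T
    · obtain ⟨T, hT, hTh⟩ := hm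
      obtain ⟨S, hS, hSm⟩ := ih T hT hTh
      exact ⟨S, hS.trans hT.le, hSm⟩
    · push Not at hm
      exact ⟨X, le_rfl, h, hm⟩

theorem two_mul_pred_factorial_lt (hd : 6 ≤ d) : 2 * (d - 1).factorial < d.factorial := by
  obtain ⟨k, rfl⟩ : ∃ k, d = k + 1 := ⟨d - 1, by omega⟩
  rw [Nat.add_sub_cancel, Nat.factorial_succ]
  exact Nat.mul_lt_mul_of_pos_right (by omega) (Nat.factorial_pos k)

theorem two_mul_card_alt {n : ℕ} (hn : 2 ≤ n) : 2 * Nat.card (alternatingGroup (Fin n)) = n.factorial := by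
  haveI : Nontrivial (Fin n) := Fin.nontrivial_iff_two_le.2 hn
  rw [Nat.card_eq_fintype_card, two_mul_card_alternatingGroup, Fintype.card_perm, Fintype.card_fin]

theorem five_le_card {d : ℕ} (hd : 6 ≤ d) : 5 ≤ Fintype.card (Fin d) := by rw [Fintype.card_fin]; omega

theorem five_le_card' {d : ℕ} (hd : 6 ≤ d) : 5 ≤ Fintype.card (Fin (d - 1)) := by rw [Fintype.card_fin]; omega

/-- The image of a normal subgroup of a group acting through the alternating group. -/
theorem image_cases {n : ℕ} (hn : 5 ≤ n) {X : Subgroup G} (f : X →* Perm (Fin n))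
    (hf : alternatingGroup (Fin n) ≤ f.range) {N : Subgroup G} (hN : N ≤ X)
    (hnorm : X ≤ Subgroup.normalizer (N : Set G)) :
    (∀ x : X, (x : G) ∈ N → f x = 1) ∨ alternatingGroup (Fin n) ≤ (N.subgroupOf X).map f := by
  rcases alternating_le_or_bot (α := Fin n) (by simpa using hn) (N := (N.subgroupOf X).map f) (by
    rintro τ hτ _ ⟨x, hx, rfl⟩
    obtain ⟨y, rfl⟩ := hf hτ
    refine ⟨y * x * y⁻¹, ?_, by simp⟩
    exact conj_mem_of hnorm y.2 hx) with e | e
  · left
    intro x hx
    have : f x ∈ (N.subgroupOf X).map f := ⟨x, hx, rfl⟩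
    rwa [e, Subgroup.mem_bot] at this
  · exact Or.inr e

theorem hasAlt_of_image {X N : Subgroup G} (f : X →* Perm (Fin d))
    (h : alternatingGroup (Fin d) ≤ (N.subgroupOf X).map f) (hN : N ≤ X) : HasAlt d N := by
  refine ⟨f.comp (Subgroup.inclusion hN), fun σ hσ => ?_⟩
  obtain ⟨x, hx, rfl⟩ := h hσ
  exact ⟨⟨x.1, hx⟩, rfl⟩

/-- A minimal subgroup lies in the kernel of an action of small image. -/
theorem Min.le_ker [Finite G] (hd : 6 ≤ d) {S X : Subgroup G} (hS : Min d S) (hSX : S ≤ X) {P : Type*} [Group P]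
    [Finite P] (h : X →* P) (hsmall : 2 * Nat.card h.range < d.factorial) :
    ∀ x : X, (x : G) ∈ S → h x = 1 := by
  obtain ⟨f, hf⟩ := hS.1
  set h' := h.comp (Subgroup.inclusion hSX) with hh'
  set N := h'.ker.map S.subtype with hN
  have hNS : N ≤ S := Subgroup.map_subtype_le _
  have hnorm : S ≤ Subgroup.normalizer (N : Set G) := le_normalizer_of (by
    rintro s hs _ ⟨k, hk, rfl⟩
    exact ⟨⟨s, hs⟩ * k * ⟨s, hs⟩⁻¹, (inferInstance : h'.ker.Normal).conj_mem k hk _, rfl⟩)
  rcases image_cases (by omega) f hf hNS hnorm with e | e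
  · exfalso
    have hle : h'.ker ≤ f.ker := fun k hk => e k ⟨k, hk, rfl⟩
    have h1 : Nat.card f.range ≤ Nat.card h'.range := by
      rw [← Subgroup.index_ker, ← Subgroup.index_ker]
      exact Nat.le_of_dvd (Nat.pos_of_ne_zero Subgroup.FiniteIndex.index_ne_zero) (Subgroup.index_dvd_of_le hle)
    have h2 : Nat.card h'.range ≤ Nat.card h.range := Subgroup.card_le_of_le (by
      rintro _ ⟨s, rfl⟩; exact ⟨_, rfl⟩)
    have h3 := Subgroup.card_le_of_le hf
    have h4 := two_mul_card_alt (n := d) (by omega)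
    omega
  · intro x hx
    have hNS' : N = S := by
      by_contra hne
      exact hS.2 N (lt_of_le_of_ne hNS hne) (hasAlt_of_image f e hNS)
    obtain ⟨k, hk, hke⟩ : (x : G) ∈ N := hNS' ▸ hx
    have : Subgroup.inclusion hSX k = x := Subtype.ext hke
    rw [← this]
    exact hk

/-- An action of `A` on `d` points, with `D` the stabiliser of one of them and kernel `K`. -/
structure Act (d : ℕ) (A D K : Subgroup G) where
  f : A →* Perm (Fin d)
  i : Fin d
  big : alternatingGroup (Fin d) ≤ f.range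
  stab : ∀ a : A, f a i = i ↔ (a : G) ∈ D
  ker : ∀ a : A, f a = 1 ↔ (a : G) ∈ K
  hD : D ≤ A
  hK : K ≤ D

namespace Act

variable {A D K : Subgroup G} (P : Act d A D K)
include P

theorem hKA : K ≤ A := P.hK.trans P.hD

theorem normalizer_kernel : A ≤ Subgroup.normalizer (K : Set G) := le_normalizer_of fun a ha x hx => by
  have := (P.ker (⟨a, ha⟩ * ⟨x, P.hKA hx⟩ * ⟨a, ha⟩⁻¹)).1 (by
    rw [map_mul, map_mul, (P.ker ⟨x, P.hKA hx⟩).2 hx]; simp)
  simpa using this

omit P in
/-- The renumbering of the other points. -/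
noncomputable def others {d : ℕ} (i : Fin d) : {x // x ≠ i} ≃ Fin (d - 1) :=
  Fintype.equivFinOfCardEq (by simp)

/-- The action of the stabiliser on the other points. -/
noncomputable def h : D →* Perm (Fin (d - 1)) :=
  (others P.i).permCongrHom.toMonoidHom.comp ((restr P.i).comp
    ((P.f.comp (Subgroup.inclusion P.hD)).codRestrict (fixer P.i) fun x => (P.stab _).2 x.2))

theorem h_eq_one {x : D} : P.h x = 1 ↔ (x : G) ∈ K := by
  rw [← P.ker ⟨x, P.hD x.2⟩]
  constructor
  · intro e
    have e' := (others P.i).permCongrHom.injective (e.trans (map_one _).symm)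
    exact congrArg Subtype.val (restr_injective _ (e'.trans (map_one (restr P.i)).symm))
  · intro e
    show (others P.i).permCongrHom (restr P.i ⟨P.f ⟨x, P.hD x.2⟩, _⟩) = 1
    rw [show (⟨P.f ⟨x, P.hD x.2⟩, (P.stab _).2 x.2⟩ : fixer P.i) = 1 from Subtype.ext e, map_one, map_one]

theorem card_h_range_le : Nat.card P.h.range ≤ (d - 1).factorial := by
  refine (Subgroup.card_le_card_group _).trans ?_
  rw [Nat.card_perm, Nat.card_fin]

theorem h_big [Finite G] : alternatingGroup (Fin (d - 1)) ≤ P.h.range := by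
  intro τ hτ
  obtain ⟨σ, hσ, hsign⟩ := restr_ofSubtype P.i ((others P.i).permCongrHom.symm τ)
  have hmem : σ.1 ∈ alternatingGroup (Fin d) := by
    rw [Perm.mem_alternatingGroup] at hτ ⊢
    rw [hsign, ← hτ]
    conv_rhs => rw [show τ = (others P.i).permCongr ((others P.i).permCongrHom.symm τ) from
      ((others P.i).permCongrHom.apply_symm_apply τ).symm, Perm.sign_permCongr]
  obtain ⟨a, ha⟩ := P.big hmem
  have haD : (a : G) ∈ D := (P.stab a).1 (by rw [ha]; exact σ.2)
  refine ⟨⟨a, haD⟩, ?_⟩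
  show (others P.i).permCongrHom (restr P.i ⟨P.f ⟨(a : G), _⟩, _⟩) = τ
  rw [show (⟨P.f ⟨(a : G), P.hD haD⟩, (P.stab _).2 haD⟩ : fixer P.i) = σ from Subtype.ext ha, hσ,
    MulEquiv.apply_symm_apply]

/-- Two cosets other than `D` are joined by an element of `D`. -/
theorem trans₂ (hd : 6 ≤ d) {a b : A} (ha : (a : G) ∉ D) (hb : (b : G) ∉ D) :
    ∃ δ ∈ D, (b : G)⁻¹ * δ * a ∈ D := by
  obtain ⟨σ, hσ, hi, hab⟩ := exists_alternating_map (five_le_card hd) (x := P.f a P.i) (y := P.f b P.i)
    (fun e => ha ((P.stab a).1 e)) (fun e => hb ((P.stab b).1 e))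
  obtain ⟨t, ht⟩ := P.big hσ
  refine ⟨t, (P.stab t).1 (by rw [ht, hi]), ?_⟩
  have := (P.stab (b⁻¹ * t * a)).1 (by
    rw [map_mul, map_mul, map_inv, Perm.mul_apply, Perm.mul_apply, ht, hab, Perm.inv_eq_iff_eq])
  simpa using this

/-- A subgroup normalised by `A` inside `D` lies in the kernel. -/
theorem le_kernel (hd : 6 ≤ d) {X : Subgroup G} (hX : X ≤ D) (hn : A ≤ Subgroup.normalizer (X : Set G)) :
    X ≤ K := by
  intro x hx
  refine (P.ker ⟨x, P.hD (hX hx)⟩).1 (Equiv.ext fun j => ?_)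
  obtain ⟨σ, hσ, hij⟩ := exists_alternating_map' (five_le_card hd) P.i j
  obtain ⟨t, rfl⟩ := P.big hσ
  have h1 : (t⁻¹ * ⟨x, P.hD (hX hx)⟩ * t : A).1 ∈ D := hX (by
    have := conj_mem_of hn (inv_mem t.2) hx
    simpa using this)
  have h2 := (P.stab _).2 h1
  rw [map_mul, map_mul, map_inv, Perm.mul_apply, Perm.mul_apply, Perm.inv_eq_iff_eq, hij] at h2
  rw [Perm.one_apply]
  exact h2

/-- The kernel is normalised by `D`. -/
theorem normalizer_kernel' : D ≤ Subgroup.normalizer (K : Set G) := P.hD.trans P.normalizer_kernel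

theorem card_h_range [Finite G] (hd : 6 ≤ d) : Nat.card P.h.range * d = Nat.card P.f.range := by
  have e1 : Nat.card P.h.range * Nat.card K = Nat.card D := by
    rw [← Subgroup.index_ker, show P.h.ker = K.subgroupOf D by ext x; exact P.h_eq_one,
      ← Nat.card_congr (Subgroup.subgroupOfEquivOfLe P.hK).toEquiv]
    exact Subgroup.index_mul_card _
  have e2 : Nat.card P.f.range * Nat.card K = Nat.card A := by
    rw [← Subgroup.index_ker, show P.f.ker = K.subgroupOf A by ext x; exact P.ker x,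
      ← Nat.card_congr (Subgroup.subgroupOfEquivOfLe P.hKA).toEquiv]
    exact Subgroup.index_mul_card _
  have e3 : d * Nat.card D = Nat.card A := by
    letI : MulAction A (Fin d) := MulAction.compHom _ P.f
    have hs : MulAction.stabilizer A P.i = D.subgroupOf A := by ext a; exact P.stab a
    haveI : MulAction.IsPretransitive A (Fin d) := ⟨fun x y => by
      obtain ⟨σ, hσ, hxy⟩ := exists_alternating_map' (five_le_card hd) x y
      obtain ⟨t, rfl⟩ := P.big hσ
      exact ⟨t, hxy⟩⟩
    have := MulAction.index_stabilizer_of_transitive A P.i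
    rw [hs, Nat.card_fin] at this
    rw [← this, ← Nat.card_congr (Subgroup.subgroupOfEquivOfLe P.hD).toEquiv]
    exact Subgroup.index_mul_card _
  refine Nat.eq_of_mul_eq_mul_right (Nat.card_pos (α := K)) ?_
  rw [e2, ← e3, ← e1]; ring

omit P in
/-- Transport of an action by conjugation. -/
noncomputable def conjAct {A D K : Subgroup G} (P : Act d A D K) (g : G) :
    Act d (A.map (cj g)) (D.map (cj g)) (K.map (cj g)) where
  f := P.f.comp (A.equivMapOfInjective _ (cj_injective g)).symm.toMonoidHom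
  i := P.i
  big σ hσ := by
    obtain ⟨a, rfl⟩ := P.big hσ
    refine ⟨A.equivMapOfInjective _ (cj_injective g) a, ?_⟩
    show P.f ((A.equivMapOfInjective _ (cj_injective g)).symm (A.equivMapOfInjective _ (cj_injective g) a)) = P.f a
    rw [MulEquiv.symm_apply_apply]
  stab a := by
    obtain ⟨b, rfl⟩ := (A.equivMapOfInjective _ (cj_injective g)).surjective a
    simp only [MonoidHom.comp_apply, MulEquiv.coe_toMonoidHom, MulEquiv.symm_apply_apply,
      Subgroup.coe_equivMapOfInjective_apply]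
    rw [P.stab]
    exact (Subgroup.mem_map_iff_mem (cj_injective g)).symm
  ker a := by
    obtain ⟨b, rfl⟩ := (A.equivMapOfInjective _ (cj_injective g)).surjective a
    simp only [MonoidHom.comp_apply, MulEquiv.coe_toMonoidHom, MulEquiv.symm_apply_apply,
      Subgroup.coe_equivMapOfInjective_apply]
    rw [P.ker]
    exact (Subgroup.mem_map_iff_mem (cj_injective g)).symm
  hD := Subgroup.map_mono P.hD
  hK := Subgroup.map_mono P.hK

end Act

end Cfsg.Lib.AltSuborbit
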