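import Cfsg.Agent.AltSuborbit.Basic
import Cfsg.Agent.Components.Misc.ThompsonWielandt
import Cfsg.Agent.Components.Signalizer.Basic

/-!
Two maximal subgroups `A`, `B` acting unfaithfully, with alternating image, on the `d` conjugates of each other:
the kernels `K`, `L` intersect trivially.
-/

set_option autoImplicit false
set_option linter.style.haveILetI false
set_option maxHeartbeats 1000000

namespace Cfsg.Lib.AltSuborbit

open Equiv Cfsg.Lib.ThompsonWielandt
open scoped commutatorElement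

variable {G : Type*} [Group G] {d : ℕ}

theorem le_normalizer_of_map {A X : Subgroup G} (h : ∀ a ∈ A, X.map (cj a) ≤ X) :
    A ≤ Subgroup.normalizer (X : Set G) :=
  le_normalizer_of fun a ha _ hx => h a ha (cj_mem hx)

theorem map_cj_le_of {A X : Subgroup G} (h : A ≤ Subgroup.normalizer (X : Set G)) {a : G} (ha : a ∈ A) :
    X.map (cj a) ≤ X := (map_cj_of_normalizer h ha).le

theorem normalizer_inf {A X Y : Subgroup G} (hX : A ≤ Subgroup.normalizer (X : Set G))
    (hY : A ≤ Subgroup.normalizer (Y : Set G)) : A ≤ Subgroup.normalizer ((X ⊓ Y : Subgroup G) : Set G) :=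
  le_normalizer_of fun _ ha _ hx => ⟨conj_mem_of hX ha hx.1, conj_mem_of hY ha hx.2⟩

theorem normalizer_sup {A X Y : Subgroup G} (hX : A ≤ Subgroup.normalizer (X : Set G))
    (hY : A ≤ Subgroup.normalizer (Y : Set G)) : A ≤ Subgroup.normalizer ((X ⊔ Y : Subgroup G) : Set G) :=
  le_normalizer_of_map fun a ha => by
    rw [Subgroup.map_sup]
    exact sup_le_sup (map_cj_le_of hX ha) (map_cj_le_of hY ha)

theorem normalizer_commutator {A X : Subgroup G} (hX : A ≤ Subgroup.normalizer (X : Set G)) :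
    A ≤ Subgroup.normalizer ((⁅X, X⁆ : Subgroup G) : Set G) :=
  le_normalizer_of_map fun a ha => by
    rw [Subgroup.map_commutator, map_cj_of_normalizer hX ha]

theorem card_fixer_le {d : ℕ} (i : Fin d) : Nat.card (fixer i) ≤ (d - 1).factorial := by
  refine (Nat.card_le_card_of_injective _ (restr_injective i)).trans ?_
  rw [Nat.card_perm, Nat.card_eq_fintype_card, Fintype.card_subtype_compl, Fintype.card_subtype_eq, Fintype.card_fin]

theorem alternating_le_of_two_mul_card {n : ℕ} {H : Subgroup (Perm (Fin n))}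
    (h : n.factorial ≤ 2 * Nat.card H) : alternatingGroup (Fin n) ≤ H := by
  refine Equiv.Perm.alternatingGroup_le_of_index_le_two ?_
  have h1 := H.card_mul_index
  rw [Nat.card_perm, Nat.card_fin] at h1
  by_contra! hc
  have h2 : Nat.card H * 3 ≤ Nat.card H * H.index := Nat.mul_le_mul_left _ hc
  have h3 : 0 < Nat.card H := Nat.card_pos
  omega

/-- `X` is a solvable normal subgroup of `K`. -/
def Rad (K X : Subgroup G) : Prop :=
  X ≤ K ∧ K ≤ Subgroup.normalizer (X : Set G) ∧ Group.IsSolvable X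

variable [Finite G]

theorem exists_rad (K : Subgroup G) : ∃ R, Rad K R ∧ ∀ X, Rad K X → X ≤ R := by
  have hne : ({X | Rad K X} : Set (Subgroup G)).Nonempty :=
    ⟨⊥, bot_le, le_normalizer_of fun a _ x hx => by rw [Subgroup.mem_bot.1 hx]; simp, inferInstance⟩
  obtain ⟨R, hR⟩ := (Set.toFinite _).exists_maximal hne
  refine ⟨R, hR.prop, fun X hX => le_sup_right.trans (hR.le_of_ge (y := R ⊔ X) ?_ le_sup_left)⟩
  exact ⟨sup_le hR.prop.1 hX.1, normalizer_sup hR.prop.2.1 hX.2.1,
    Cfsg.Lib.Signalizer.isSolvable_sup (hX.1.trans hR.prop.2.1) hR.prop.2.2 hX.2.2⟩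

theorem Act.solvable_le {A D K : Subgroup G} (P : Act d A D K) (hd : 6 ≤ d) {N : Subgroup G} (hN : N ≤ D)
    (hn : D ≤ Subgroup.normalizer (N : Set G)) (hs : Group.IsSolvable N) : N ≤ K := by
  haveI := hs
  haveI : Group.IsSolvable (N.subgroupOf D) :=
    solvable_of_solvable_injective (f := (Subgroup.subgroupOfEquivOfLe hN).toMonoidHom)
      (Subgroup.subgroupOfEquivOfLe hN).injective
  haveI : Group.IsSolvable ((N.subgroupOf D).map P.h) :=
    solvable_of_surjective (P.h.subgroupMap_surjective (N.subgroupOf D))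
  have hbot := eq_bot_of_isSolvable (N := (N.subgroupOf D).map P.h) (five_le_card' hd) (by
    rintro τ hτ _ ⟨x, hx, rfl⟩
    obtain ⟨y, rfl⟩ := P.h_big hτ
    exact ⟨y * x * y⁻¹, conj_mem_of hn y.2 hx, by simp⟩)
  intro x hx
  have : P.h ⟨x, hN hx⟩ ∈ (N.subgroupOf D).map P.h := ⟨_, hx, rfl⟩
  rw [hbot, Subgroup.mem_bot, P.h_eq_one] at this
  exact this

/-- The symmetric configuration. -/
structure Cfg (d : ℕ) (A B K L : Subgroup G) where
  hd : 6 ≤ d
  S : Setting A B
  P : Act d A (A ⊓ B) K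
  Q : Act d B (B ⊓ A) L
  hK : K ≠ ⊥
  hL : L ≠ ⊥
  noAlt : ∀ T ≤ A ⊓ B, ¬ HasAlt d T
  conj : ∃ g : G, B = A.map (cj g) ∧ L = K.map (cj g)

variable {A B K L : Subgroup G}

def Cfg.symm (C : Cfg d A B K L) : Cfg d B A L K where
  hd := C.hd
  S := C.S.symm
  P := C.Q
  Q := C.P
  hK := C.hL
  hL := C.hK
  noAlt T hT := C.noAlt T (inf_comm A B ▸ hT)
  conj := by
    obtain ⟨g, hg, hg'⟩ := C.conj
    exact ⟨g⁻¹, by rw [hg, map_cj_cj, inv_mul_cancel, map_cj_one],
      by rw [hg', map_cj_cj, inv_mul_cancel, map_cj_one]⟩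

theorem exists_cosetHom {B D : Subgroup G} (_hD : D ≤ B) (hrel : D.relIndex B = d) :
    ∃ (ψ : B →* Perm (Fin d)) (i : Fin d), ∀ b : B, ψ b i = i ↔ (b : G) ∈ D := by
  have hcard : Nat.card (B ⧸ D.subgroupOf B) = d := hrel
  let e : B ⧸ D.subgroupOf B ≃ Fin d := (Finite.equivFin _).trans (finCongr hcard)
  refine ⟨e.permCongrHom.toMonoidHom.comp (MulAction.toPermHom B (B ⧸ D.subgroupOf B)),
    e (QuotientGroup.mk 1), fun b => ?_⟩
  show e (b • e.symm (e (QuotientGroup.mk 1))) = e (QuotientGroup.mk 1) ↔ _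
  rw [e.apply_eq_iff_eq, e.symm_apply_apply, MulAction.Quotient.smul_mk, smul_eq_mul, mul_one, eq_comm,
    QuotientGroup.eq, inv_one, one_mul]
  rfl

theorem exists_cfg (hd : 6 ≤ d) (S : Setting A B) (P : Act d A (A ⊓ B) K) (hK : K ≠ ⊥)
    (hrel : (B ⊓ A).relIndex B = d) : ∃ (L : Subgroup G) (C : Cfg d A B K L), C.P = P := by
  classical
  obtain ⟨g, hg⟩ := S.conj
  have P' := P.conjAct g
  rw [show A.map (cj g) = B from hg.symm] at P'
  -- the action on the cosets
  obtain ⟨ψ, i₀, hstab⟩ := exists_cosetHom (inf_le_left : B ⊓ A ≤ B) hrel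
  set L := ψ.ker.map B.subtype with hL
  have hker : ∀ b : B, ψ b = 1 ↔ (b : G) ∈ L := fun b =>
    (Subgroup.mem_map_iff_mem B.subtype_injective (K := ψ.ker) (x := b)).symm
  have hLB : L ≤ B ⊓ A := by
    rintro _ ⟨b, hb, rfl⟩
    exact (hstab b).1 (by rw [MonoidHom.mem_ker.1 hb]; rfl)
  have hnL : B ≤ Subgroup.normalizer (L : Set G) := le_normalizer_of (by
    rintro a ha _ ⟨b, hb, rfl⟩
    exact ⟨⟨a, ha⟩ * b * ⟨a, ha⟩⁻¹, (inferInstance : ψ.ker.Normal).conj_mem b hb _, rfl⟩)
  have hfac := two_mul_pred_factorial_lt hd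
  -- minimal subgroups with alternating quotient inside both
  have hminK : ∀ T, Min d T → T ≤ A ⊓ B → T ≤ K ∧ T ≤ L := by
    intro T hT hTD
    constructor
    · intro x hx
      have := hT.le_ker hd hTD P.h (by have := P.card_h_range_le; omega) ⟨x, hTD hx⟩ hx
      exact P.h_eq_one.1 this
    · intro x hx
      have hTD' : T ≤ B ⊓ A := inf_comm A B ▸ hTD
      refine (hker ⟨x, (hTD' hx).1⟩).1 ?_
      refine hT.le_ker hd hTD' (ψ.comp (Subgroup.inclusion inf_le_left)) ?_ ⟨x, hTD' hx⟩ hx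
      have h1 : Nat.card (ψ.comp (Subgroup.inclusion (inf_le_left : B ⊓ A ≤ B))).range ≤ Nat.card (fixer i₀) :=
        Subgroup.card_le_of_le (by rintro _ ⟨y, rfl⟩; exact (hstab _).2 y.2)
      have h2 := card_fixer_le i₀
      omega
  have noAlt : ∀ T ≤ A ⊓ B, ¬ HasAlt d T := by
    intro T hTD hT
    obtain ⟨T₀, hT₀, hmin⟩ := hT.exists_min
    set Z := sSup {W : Subgroup G | Min d W ∧ W ≤ A ⊓ B} with hZ
    have hZD : Z ≤ A ⊓ B := sSup_le fun W hW => hW.2
    have hmap : ∀ a : G, (∀ W, Min d W → W ≤ A ⊓ B → W.map (cj a) ≤ A ⊓ B) → Z.map (cj a) ≤ Z := by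
      intro a h
      rw [Subgroup.map_le_iff_le_comap]
      refine sSup_le fun W hW => Subgroup.map_le_iff_le_comap.1 ?_
      exact le_sSup (s := {W : Subgroup G | Min d W ∧ W ≤ A ⊓ B}) ⟨hW.1.map_cj a, h W hW.1 hW.2⟩
    have hbot : Z = ⊥ := by
      refine S.not_normal_both (hZD.trans inf_le_left) (hZD.trans inf_le_right)
        (le_normalizer_of_map fun a ha => hmap a fun W hW hWD => ?_)
        (le_normalizer_of_map fun a ha => hmap a fun W hW hWD => ?_)
      · exact (Subgroup.map_mono (hminK W hW hWD).1).trans ((map_cj_le_of P.normalizer_kernel ha).trans P.hK)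
      · exact (Subgroup.map_mono (hminK W hW hWD).2).trans
          ((map_cj_le_of hnL ha).trans (hLB.trans (inf_comm B A).le))
    have hT₀bot : T₀ = ⊥ :=
      le_bot_iff.1 (hbot ▸ le_sSup (s := {W : Subgroup G | Min d W ∧ W ≤ A ⊓ B}) ⟨hmin, hT₀.trans hTD⟩)
    obtain ⟨f, hf⟩ := hmin.1
    have h1 := Subgroup.card_le_of_le hf
    have h2 := two_mul_card_alt (n := d) (by omega)
    have h3 : Nat.card f.range ≤ 1 := by
      refine (Nat.card_le_card_of_surjective _ f.rangeRestrict_surjective).trans ?_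
      rw [hT₀bot, Subgroup.card_bot]
    have h4 : 6 ≤ d.factorial := hd.trans (Nat.self_le_factorial d)
    omega
  have hnKg := P'.normalizer_kernel
  have hLK : L ≤ K.map (cj g) := by
    intro x hx
    rcases image_cases (by omega) P'.f P'.big (hLB.trans inf_le_left) hnL with h | h
    · exact (P'.ker ⟨x, (hLB hx).1⟩).1 (h _ hx)
    · exact absurd (hasAlt_of_image P'.f h (hLB.trans inf_le_left)) (noAlt L (hLB.trans (inf_comm B A).le))
  have hbig : alternatingGroup (Fin d) ≤ ψ.range := by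
    refine alternating_le_of_two_mul_card ?_
    have hle : ψ.ker ≤ P'.f.ker := fun b hb => (P'.ker b).2 (hLK ((hker b).1 hb))
    have h1 : Nat.card P'.f.range ≤ Nat.card ψ.range := by
      rw [← Subgroup.index_ker, ← Subgroup.index_ker]
      exact Nat.le_of_dvd (Nat.pos_of_ne_zero Subgroup.FiniteIndex.index_ne_zero) (Subgroup.index_dvd_of_le hle)
    have h2 := Subgroup.card_le_of_le P'.big
    have h3 := two_mul_card_alt (n := d) (by omega)
    omega
  let Q : Act d B (B ⊓ A) L := ⟨ψ, i₀, hbig, hstab, hker, inf_le_left, hLB⟩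
  have hKL : K.map (cj g) ≤ L := by
    intro x hx
    rcases image_cases (by omega) Q.f Q.big P'.hKA hnKg with h | h
    · exact (Q.ker ⟨x, P'.hKA hx⟩).1 (h _ hx)
    · have h1 := (hasAlt_of_image Q.f h P'.hKA).map_cj g⁻¹
      rw [map_cj_cj, inv_mul_cancel, map_cj_one] at h1
      exact absurd h1 (noAlt K P.hK)
  have hLeq : L = K.map (cj g) := le_antisymm hLK hKL
  refine ⟨L, ⟨hd, S, P, Q, hK, fun h => hK ?_, noAlt, g, hg, hLeq⟩, rfl⟩
  rw [hLeq] at h
  exact (Subgroup.map_eq_bot_iff_of_injective _ (cj_injective g)).1 h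

namespace Cfg

variable (C : Cfg d A B K L)
include C

theorem rad_le {RK RL : Subgroup G} (hK : Rad K RK) (hn : A ≤ Subgroup.normalizer (RK : Set G))
    (hL : ∀ X, Rad L X → X ≤ RL) : RK ≤ RL := by
  have h1 : RK ≤ A ⊓ B := hK.1.trans C.P.hK
  have h2 : RK ≤ L := C.Q.solvable_le C.hd (h1.trans (inf_comm A B).le) (inf_le_right.trans hn) hK.2.2
  exact hL RK ⟨h2, (C.Q.hK.trans inf_le_right).trans hn, hK.2.2⟩

theorem rad_normalized {RK : Subgroup G} (hR : Rad K RK) (hgr : ∀ X, Rad K X → X ≤ RK) :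
    A ≤ Subgroup.normalizer (RK : Set G) :=
  le_normalizer_of_map fun a ha => by
    haveI := hR.2.2
    refine hgr _ ⟨?_, ?_, solvable_of_surjective ((cj a).subgroupMap_surjective RK)⟩
    · exact (Subgroup.map_mono hR.1).trans (map_cj_le_of C.P.normalizer_kernel ha)
    · refine le_normalizer_of_map fun k hk => ?_
      have hk' : a⁻¹ * k * a ∈ K := by
        simpa using conj_mem_of C.P.normalizer_kernel (inv_mem ha) hk
      rw [map_cj_cj, show k * a = a * (a⁻¹ * k * a) by group, ← map_cj_cj]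
      exact Subgroup.map_mono (map_cj_le_of hR.2.1 hk')

theorem solvable_eq_bot {N : Subgroup G} (hN : N ≤ A ⊓ B) (hn : A ⊓ B ≤ Subgroup.normalizer (N : Set G))
    (hs : Group.IsSolvable N) : N = ⊥ := by
  have hNK : N ≤ K := C.P.solvable_le C.hd hN hn hs
  obtain ⟨RK, hRK, hgK⟩ := exists_rad K
  obtain ⟨RL, hRL, hgL⟩ := exists_rad L
  have hAK := C.rad_normalized hRK hgK
  have hBL := C.symm.rad_normalized hRL hgL
  have he : RK = RL := le_antisymm (C.rad_le hRK hAK hgL) (C.symm.rad_le hRL hBL hgK)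
  have hbot : RK = ⊥ := C.S.not_normal_both ((hRK.1.trans C.P.hK).trans inf_le_left)
    ((hRK.1.trans C.P.hK).trans inf_le_right) hAK (he ▸ hBL)
  exact le_bot_iff.1 (hbot ▸ hgK N ⟨hNK, C.P.hK.trans hn, hs⟩)

theorem secondCore_cases : secondCore A B = ⊥ ∨ secondCore B A = ⊥ := by
  by_contra! h
  obtain ⟨p, hp, hpA, -⟩ := C.S.main h.1 h.2
  haveI := Fact.mk hp
  haveI := hpA.isNilpotent
  refine h.1 (C.solvable_eq_bot ?_ ?_ inferInstance)
  · exact (secondCore_le₁.trans (kern_le_right _ _))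
  · exact inf_le_left.trans (le_normalizer_kern _ _)

theorem le_secondCore {X : Subgroup G} (hK : X ≤ K) (hL : X ≤ L) (hn : A ≤ Subgroup.normalizer (X : Set G)) :
    X ≤ secondCore A B := by
  refine le_kern (hK.trans C.P.hKA) hn (le_inf ?_ ?_)
  · exact hK.trans (le_kern C.P.hKA C.P.normalizer_kernel C.P.hK)
  · exact hL.trans (le_kern C.Q.hKA C.Q.normalizer_kernel C.Q.hK)

theorem inter_eq_bot_of_secondCore (h2 : secondCore A B = ⊥) : K ⊓ L = ⊥ := by
  classical
  haveI := Fintype.ofFinite G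
  have hA2 : ∀ X : Subgroup G, X ≤ K → X ≤ L → A ≤ Subgroup.normalizer (X : Set G) → X = ⊥ :=
    fun X h1 h3 hn => le_bot_iff.1 (h2 ▸ C.le_secondCore h1 h3 hn)
  set h := C.Q.h with hh
  have h1iff : ∀ x : (B ⊓ A : Subgroup G), h x = 1 ↔ (x : G) ∈ L := fun x => C.Q.h_eq_one
  have hKD : K ≤ B ⊓ A := C.P.hK.trans (inf_comm A B).le
  have hnK : A ≤ Subgroup.normalizer (K : Set G) := C.P.normalizer_kernel
  have hnL : B ≤ Subgroup.normalizer (L : Set G) := C.Q.normalizer_kernel
  have hnK' : B ⊓ A ≤ Subgroup.normalizer (K : Set G) := inf_le_right.trans hnK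
  have h5 : 5 ≤ d - 1 := by have := C.hd; omega
  have hKimg : alternatingGroup (Fin (d - 1)) ≤ (K.subgroupOf (B ⊓ A)).map h := by
    refine (image_cases h5 h C.Q.h_big hKD hnK').resolve_left fun e => ?_
    exact C.hK (hA2 K le_rfl (fun x hx => (h1iff ⟨x, hKD hx⟩).1 (e _ hx)) hnK)
  set E := ⁅K, K⁆ with hE
  have hEK : E ≤ K := Subgroup.commutator_le.2 fun x hx y hy =>
    mul_mem (mul_mem (mul_mem hx hy) (inv_mem hx)) (inv_mem hy)
  have hnE : A ≤ Subgroup.normalizer (E : Set G) := normalizer_commutator hnK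
  have hEimg : alternatingGroup (Fin (d - 1)) ≤ (E.subgroupOf (B ⊓ A)).map h := by
    rw [← commutator_alternating (five_le_card' C.hd)]
    refine Subgroup.commutator_le.2 fun x hx y hy => ?_
    obtain ⟨a, ha, rfl⟩ := hKimg hx
    obtain ⟨b, hb, rfl⟩ := hKimg hy
    exact ⟨⁅a, b⁆, Subgroup.mem_subgroupOf.2 (Subgroup.commutator_mem_commutator ha hb),
      map_commutatorElement h a b⟩
  set N := E ⊓ L with hN
  have hNE : N ≤ E := inf_le_left
  have hnND : B ⊓ A ≤ Subgroup.normalizer (N : Set G) :=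
    normalizer_inf (inf_le_right.trans hnE) (inf_le_left.trans hnL)
  have hnNK : K ≤ Subgroup.normalizer (N : Set G) := hKD.trans hnND
  have hEN : ¬ E ≤ N := by
    intro hle
    have hbot : (E.subgroupOf (B ⊓ A)).map h = ⊥ := by
      refine (Subgroup.eq_bot_iff_forall _).2 ?_
      rintro _ ⟨x, hx, rfl⟩
      exact (h1iff x).2 (hle hx).2
    refine alternating_not_comm (five_le_card' C.hd) fun σ hσ τ hτ => ?_
    have := hEimg hσ
    rw [hbot, Subgroup.mem_bot] at this
    rw [this]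
    exact Commute.one_left τ
  have himg : ∀ Y : Subgroup G, Y ≤ E → K ≤ Subgroup.normalizer (Y : Set G) →
      Y ≤ N ∨ alternatingGroup (Fin (d - 1)) ≤ (Y.subgroupOf (B ⊓ A)).map h := by
    intro Y hY hn
    refine (alternating_le_or_bot (five_le_card' C.hd) ?_).imp (fun e x hx => ⟨hY hx, ?_⟩) id
    · rintro τ hτ _ ⟨x, hx, rfl⟩
      obtain ⟨k, hk, rfl⟩ := hKimg hτ
      exact ⟨k * x * k⁻¹, conj_mem_of hn hk hx, by simp⟩
    · have hm : h ⟨x, hKD (hEK (hY hx))⟩ ∈ (Y.subgroupOf (B ⊓ A)).map h := ⟨_, hx, rfl⟩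
      rw [e, Subgroup.mem_bot] at hm
      exact (h1iff _).1 hm
  have hprime : ∀ Y Z : Subgroup G, Y ≤ E → Z ≤ E → K ≤ Subgroup.normalizer (Y : Set G) →
      K ≤ Subgroup.normalizer (Z : Set G) → Y ⊓ Z ≤ N → Y ≤ N ∨ Z ≤ N := by
    intro Y Z hY hZ hnY hnZ hYZ
    refine (himg Y hY hnY).imp id fun hYi => (himg Z hZ hnZ).resolve_right fun hZi => ?_
    refine alternating_not_comm (five_le_card' C.hd) fun σ hσ τ hτ => ?_
    obtain ⟨y, hy, rfl⟩ := hYi hσ
    obtain ⟨z, hz, rfl⟩ := hZi hτ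
    refine commutatorElement_eq_one_iff_mul_comm.1 ?_
    rw [← map_commutatorElement]
    have hy : (y : G) ∈ Y := hy
    have hz : (z : G) ∈ Z := hz
    refine (h1iff _).2 (hYZ (x := ⁅(y : G), (z : G)⁆) ⟨?_, ?_⟩).2
    · have := mul_mem hy (conj_mem_of hnY (hEK (hZ hz)) (inv_mem hy))
      simpa [commutatorElement_def, mul_assoc] using this
    · have := mul_mem (conj_mem_of hnZ (hEK (hY hy)) hz) (inv_mem hz)
      simpa [commutatorElement_def, mul_assoc] using this
  by_cases hcase : ∃ a ∈ A, a ∉ B ∧ a ∈ Subgroup.normalizer (N : Set G)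
  · obtain ⟨a, ha, haB, haN⟩ := hcase
    have hall : A ≤ Subgroup.normalizer (N : Set G) := by
      intro b hb
      by_cases hbB : b ∈ B
      · exact hnND ⟨hbB, hb⟩
      · obtain ⟨δ, hδ, hm⟩ := C.P.trans₂ C.hd (a := ⟨a, ha⟩) (b := ⟨b, hb⟩) (fun e => haB e.2) (fun e => hbB e.2)
        rw [show b = δ * a * (b⁻¹ * δ * a)⁻¹ by group]
        exact mul_mem (mul_mem (hnND ⟨hδ.2, hδ.1⟩) haN) (inv_mem (hnND ⟨hm.2, hm.1⟩))
    have hNbot : N = ⊥ := hA2 N (hNE.trans hEK) inf_le_right hall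
    have hnM : A ≤ Subgroup.normalizer ((K ⊓ L : Subgroup G) : Set G) := by
      refine le_normalizer_of fun c hc x hx => ?_
      have hxc : c * x * c⁻¹ ∈ K := conj_mem_of hnK hc hx.1
      refine ⟨hxc, (h1iff ⟨_, hKD hxc⟩).1 (eq_one_of_commute_alternating (five_le_card' C.hd) fun τ hτ => ?_)⟩
      obtain ⟨e, he, rfl⟩ := hEimg hτ
      refine Commute.map (Subtype.ext ?_ : Commute _ e) h
      show c * x * c⁻¹ * (e : G) = (e : G) * (c * x * c⁻¹)
      have he' : c⁻¹ * (e : G) * c ∈ E := by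
        simpa using conj_mem_of hnE (inv_mem hc) he
      have hcomm : x * (c⁻¹ * (e : G) * c) = (c⁻¹ * (e : G) * c) * x := by
        refine commutatorElement_eq_one_iff_mul_comm.1 ?_
        have hmem : ⁅x, c⁻¹ * (e : G) * c⁆ ∈ N := Subgroup.mem_inf.2 ⟨
          mul_mem (conj_mem_of (hnE.trans' C.P.hKA) hx.1 he') (inv_mem he'), by
            have := mul_mem hx.2 (conj_mem_of hnL (hKD (hEK he')).1 (inv_mem hx.2))
            simpa [commutatorElement_def, mul_assoc] using this⟩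
        rwa [hNbot, Subgroup.mem_bot] at hmem
      calc c * x * c⁻¹ * (e : G) = c * (x * (c⁻¹ * (e : G) * c)) * c⁻¹ := by group
        _ = c * ((c⁻¹ * (e : G) * c) * x) * c⁻¹ := by rw [hcomm]
        _ = (e : G) * (c * x * c⁻¹) := by group
    exact hA2 _ inf_le_left inf_le_right hnM
  · push Not at hcase
    exfalso
    have hconjN : ∀ a ∈ A, K ≤ Subgroup.normalizer ((N.map (cj a) : Subgroup G) : Set G) := by
      intro a ha
      refine le_normalizer_of_map fun k hk => ?_
      have hk' : a⁻¹ * k * a ∈ K := by simpa using conj_mem_of hnK (inv_mem ha) hk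
      rw [map_cj_cj, show k * a = a * (a⁻¹ * k * a) by group, ← map_cj_cj]
      exact Subgroup.map_mono (map_cj_le_of hnNK hk')
    have hconjE : ∀ a ∈ A, N.map (cj a) ≤ E := fun a ha =>
      (Subgroup.map_mono hNE).trans (map_cj_le_of hnE ha)
    have hnotle : ∀ a ∈ A, a ∉ B → ¬ N.map (cj a) ≤ N := by
      intro a ha haB hle
      have heq : N.map (cj a) = N := Subgroup.eq_of_le_of_card_ge hle
        (by rw [Subgroup.card_map_of_injective (cj_injective a)])
      refine hcase a ha haB (Subgroup.mem_normalizer_iff.2 fun x => ⟨fun hx => heq ▸ cj_mem hx, fun hx => ?_⟩)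
      rw [← heq, mem_map_cj] at hx
      simpa [mul_assoc] using hx
    let T : Finset G → Subgroup G := fun s => E ⊓ s.inf fun a => N.map (cj a)
    have hT : ∀ s : Finset G, (∀ a ∈ s, a ∈ A ∧ a ∉ B) → K ≤ Subgroup.normalizer (T s : Set G) ∧ ¬ T s ≤ N := by
      intro s
      induction s using Finset.induction_on with
      | empty => exact fun _ => ⟨by simpa [T] using hnE.trans' C.P.hKA, by simpa [T] using hEN⟩
      | insert a s has ih =>
        intro hs
        obtain ⟨ha, haB⟩ := hs a (Finset.mem_insert_self a s)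
        obtain ⟨ih1, ih2⟩ := ih fun b hb => hs b (Finset.mem_insert_of_mem hb)
        have he : T (insert a s) = T s ⊓ N.map (cj a) := by
          simp only [T, Finset.inf_insert]
          rw [inf_comm (N.map (cj a)), inf_assoc]
        rw [he]
        refine ⟨normalizer_inf ih1 (hconjN a ha), fun hle => ?_⟩
        rcases hprime _ _ inf_le_left (hconjE a ha) ih1 (hconjN a ha) hle with e | e
        · exact ih2 e
        · exact hnotle a ha haB e
    set s : Finset G := Finset.univ.filter fun a => a ∈ A ∧ a ∉ B with hs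
    have hsmem : ∀ a, a ∈ s ↔ a ∈ A ∧ a ∉ B := fun a => by simp [hs]
    obtain ⟨-, hTN⟩ := hT s fun a ha => (hsmem a).1 ha
    set T₁ := T s with hT₁
    have hT₁E : T₁ ≤ E := inf_le_left
    have hT₁conj : ∀ a ∈ A, a ∉ B → T₁ ≤ N.map (cj a) := fun a ha haB =>
      inf_le_right.trans (Finset.inf_le (f := fun a => N.map (cj a)) ((hsmem a).2 ⟨ha, haB⟩))
    have hT₁n : B ⊓ A ≤ Subgroup.normalizer (T₁ : Set G) := by
      refine le_normalizer_of fun δ hδ x hx => ⟨conj_mem_of hnE hδ.2 hx.1, ?_⟩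
      refine Subgroup.zpowers_le.1 (Finset.le_inf fun a ha => Subgroup.zpowers_le.2 ?_)
      obtain ⟨ha1, ha2⟩ := (hsmem a).1 ha
      have hm : δ⁻¹ * a ∈ A ∧ δ⁻¹ * a ∉ B := ⟨mul_mem (inv_mem hδ.2) ha1, fun e => ha2 (by
        simpa using mul_mem hδ.1 e)⟩
      have := hT₁conj _ hm.1 hm.2 hx
      rw [mem_map_cj] at this ⊢
      simpa [mul_assoc] using this
    -- centralisers
    have hCA : ∀ x ∈ A, (∀ e ∈ E, e * x = x * e) → x ∈ K := by
      have hle : A ⊓ Subgroup.centralizer (E : Set G) ≤ K := by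
        refine C.P.le_kernel C.hd (fun x hx => ⟨hx.1, ?_⟩) (le_normalizer_of fun c hc x hx => ⟨?_, ?_⟩)
        · by_contra hxB
          refine hcase x hx.1 hxB (Subgroup.mem_normalizer_iff.2 fun y => ⟨fun hy => ?_, fun hy => ?_⟩)
          · have := Subgroup.mem_centralizer_iff.1 hx.2 y (hNE hy)
            rwa [← this, mul_inv_cancel_right]
          · have := Subgroup.mem_centralizer_iff.1 hx.2 _ (hNE hy)
            rw [inv_mul_cancel_right] at this
            have e : x * y * x⁻¹ = y := (mul_left_cancel this).symm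
            rwa [e] at hy
        · exact A.mul_mem (A.mul_mem hc hx.1) (A.inv_mem hc)
        · refine Subgroup.mem_centralizer_iff.2 fun e he => ?_
          have he' : c⁻¹ * e * c ∈ E := by simpa using conj_mem_of hnE (inv_mem hc) he
          have hx' := Subgroup.mem_centralizer_iff.1 hx.2 _ he'
          calc e * (c * x * c⁻¹) = c * ((c⁻¹ * e * c) * x) * c⁻¹ := by group
            _ = c * (x * (c⁻¹ * e * c)) * c⁻¹ := by rw [hx']
            _ = c * x * c⁻¹ * e := by group
      exact fun x hx hc => hle ⟨hx, Subgroup.mem_centralizer_iff.2 hc⟩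
    obtain ⟨g, hg, hgL⟩ := C.conj
    set E' := ⁅L, L⁆ with hE'
    have hE'g : E' = E.map (cj g) := by rw [hE', hE, hgL, Subgroup.map_commutator]
    have hCB : ∀ x ∈ B, (∀ e ∈ E', e * x = x * e) → x ∈ L := by
      intro x hx hc
      rw [hg, mem_map_cj] at hx
      rw [hgL, mem_map_cj]
      refine hCA _ hx fun e he => ?_
      have := hc (g * e * g⁻¹) (hE'g ▸ cj_mem he)
      calc e * (g⁻¹ * x * g) = g⁻¹ * ((g * e * g⁻¹) * x) * g := by group
        _ = g⁻¹ * (x * (g * e * g⁻¹)) * g := by rw [this]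
        _ = g⁻¹ * x * g * e := by group
    have hE'L : E' ≤ L := Subgroup.commutator_le.2 fun x hx y hy =>
      mul_mem (mul_mem (mul_mem hx hy) (inv_mem hx)) (inv_mem hy)
    have hnE' : B ≤ Subgroup.normalizer (E' : Set G) := normalizer_commutator hnL
    -- everything conjugate to `N`
    let Z : Subgroup G := ⨅ a : A, N.map (cj (a : G))
    have hZ : Z = ⊥ := by
      have hZN : Z ≤ N := (iInf_le _ (1 : A)).trans (by rw [OneMemClass.coe_one, map_cj_one])
      refine hA2 Z (hZN.trans (hNE.trans hEK)) (hZN.trans inf_le_right) (le_normalizer_of fun c hc x hx => ?_)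
      simp only [Z, Subgroup.mem_iInf] at hx ⊢
      intro a
      have := hx (⟨c, hc⟩⁻¹ * a)
      rw [mem_map_cj] at this ⊢
      simpa [mul_assoc] using this
    refine hTN fun x hx => ⟨hT₁E hx, hCB x (hKD (hEK (hT₁E hx))).1 fun y hy => ?_⟩
    have hxD := hKD (hEK (hT₁E hx))
    have hyD := C.Q.hK (hE'L hy)
    have hxy1 : ⁅x, y⁆ ∈ T₁ := by
      have := mul_mem hx (conj_mem_of hT₁n hyD (inv_mem hx))
      simpa [commutatorElement_def, mul_assoc] using this
    have hxy2 : ⁅x, y⁆ ∈ L := hE'L (mul_mem (conj_mem_of hnE' hxD.1 hy) (inv_mem hy))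
    have hxyZ : ⁅x, y⁆ ∈ Z := by
      simp only [Z, Subgroup.mem_iInf]
      intro a
      by_cases haB : (a : G) ∈ B
      · rw [map_cj_of_normalizer hnND ⟨haB, a.2⟩]
        exact ⟨hT₁E hxy1, hxy2⟩
      · exact hT₁conj _ a.2 haB hxy1
    rw [hZ, Subgroup.mem_bot] at hxyZ
    exact (commutatorElement_eq_one_iff_mul_comm.1 hxyZ).symm

theorem inter_eq_bot : K ⊓ L = ⊥ := by
  rcases C.secondCore_cases with h | h
  · exact C.inter_eq_bot_of_secondCore h
  · rw [inf_comm]
    exact C.symm.inter_eq_bot_of_secondCore h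

end Cfg

end Cfsg.Lib.AltSuborbit
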