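import Mathlib

/-!
Facts on permutation groups containing the alternating group.
-/

set_option autoImplicit false

namespace Cfsg.Lib.AltSuborbit

open Equiv Equiv.Perm

variable {α : Type*} [Fintype α] [DecidableEq α]

theorem exists_two_ne (hα : 5 ≤ Fintype.card α) (a b c : α) :
    ∃ u v, u ≠ v ∧ u ≠ a ∧ u ≠ b ∧ u ≠ c ∧ v ≠ a ∧ v ≠ b ∧ v ≠ c := by
  have h : 1 < (Finset.univ \ ({a, b, c} : Finset α)).card := by
    have h1 := Finset.le_card_sdiff ({a, b, c} : Finset α) Finset.univ
    have h2 : ({a, b, c} : Finset α).card ≤ 3 := Finset.card_le_three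
    rw [Finset.card_univ] at h1
    omega
  obtain ⟨u, hu, v, hv, huv⟩ := Finset.one_lt_card.1 h
  simp only [Finset.mem_sdiff, Finset.mem_univ, true_and, Finset.mem_insert, Finset.mem_singleton, not_or] at hu hv
  exact ⟨u, v, huv, hu.1, hu.2.1, hu.2.2, hv.1, hv.2.1, hv.2.2⟩

/-- The centraliser of the alternating group is trivial. -/
theorem eq_one_of_commute_alternating (hα : 5 ≤ Fintype.card α) {σ : Perm α}
    (h : ∀ τ ∈ alternatingGroup α, Commute σ τ) : σ = 1 := by
  ext x
  by_contra hne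
  change σ x ≠ x at hne
  obtain ⟨u, v, huv, hu1, hu2, -, hv1, hv2, -⟩ := exists_two_ne hα x (σ x) x
  have hmem : swap (σ x) u * swap (σ x) v ∈ alternatingGroup α := by
    rw [mem_alternatingGroup, map_mul, sign_swap (Ne.symm hu2), sign_swap (Ne.symm hv2)]
    decide
  have e := congrArg (fun p : Perm α => p x) (h _ hmem).eq
  simp only [Perm.mul_apply] at e
  rw [swap_apply_of_ne_of_ne hne.symm hv1.symm, swap_apply_of_ne_of_ne hne.symm hu1.symm,
    swap_apply_left, swap_apply_of_ne_of_ne hv2 huv.symm] at e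
  exact hv2 e.symm

theorem alternating_le_or_bot (hα : 5 ≤ Fintype.card α) {N : Subgroup (Perm α)}
    (h : ∀ τ ∈ alternatingGroup α, ∀ n ∈ N, τ * n * τ⁻¹ ∈ N) : N = ⊥ ∨ alternatingGroup α ≤ N := by
  haveI := alternatingGroup.isSimpleGroup (α := α) (by simpa [Nat.card_eq_fintype_card] using hα)
  have hnorm : (N.subgroupOf (alternatingGroup α)).Normal :=
    ⟨fun n hn τ => Subgroup.mem_subgroupOf.2 (h τ.1 τ.2 n.1 (Subgroup.mem_subgroupOf.1 hn))⟩
  rcases hnorm.eq_bot_or_eq_top with e | e
  · refine Or.inl ((Subgroup.eq_bot_iff_forall _).2 fun n hn => eq_one_of_commute_alternating hα fun τ hτ => ?_)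
    have h1 : n * τ * n⁻¹ * τ⁻¹ ∈ N := by
      rw [mul_assoc n τ, mul_assoc n]
      exact N.mul_mem hn (h τ hτ _ (N.inv_mem hn))
    have h2 : n * τ * n⁻¹ * τ⁻¹ ∈ alternatingGroup α :=
      mul_mem ((inferInstance : (alternatingGroup α).Normal).conj_mem τ hτ n) (inv_mem hτ)
    rw [Subgroup.subgroupOf_eq_bot, disjoint_iff, Subgroup.eq_bot_iff_forall] at e
    have h3 := e _ ⟨h1, h2⟩
    rw [mul_inv_eq_one, mul_inv_eq_iff_eq_mul] at h3
    exact h3
  · exact Or.inr (Subgroup.subgroupOf_eq_top.1 e)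

theorem alternating_not_comm (hα : 5 ≤ Fintype.card α) : ¬ ∀ σ ∈ alternatingGroup α, ∀ τ ∈ alternatingGroup α,
    Commute σ τ := by
  intro h
  have h1 : alternatingGroup α = ⊥ :=
    (Subgroup.eq_bot_iff_forall _).2 fun σ hσ => eq_one_of_commute_alternating hα (h σ hσ)
  obtain ⟨a⟩ : Nonempty α := Fintype.card_pos_iff.1 (by omega)
  obtain ⟨u, v, huv, hu, -, -, hv, -⟩ := exists_two_ne hα a a a
  have hmem : swap a u * swap a v ∈ alternatingGroup α := by
    rw [mem_alternatingGroup, map_mul, sign_swap (Ne.symm hu), sign_swap (Ne.symm hv)]; decide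
  rw [h1, Subgroup.mem_bot] at hmem
  have e := congrArg (fun p : Perm α => p v) hmem
  simp only [Perm.mul_apply, swap_apply_right, swap_apply_left, Perm.one_apply] at e
  exact huv e

theorem commutator_alternating (hα : 5 ≤ Fintype.card α) :
    ⁅alternatingGroup α, alternatingGroup α⁆ = alternatingGroup α := by
  refine le_antisymm (Subgroup.commutator_le.2 fun x hx y hy => ?_) ?_
  · exact mul_mem (mul_mem (mul_mem hx hy) (inv_mem hx)) (inv_mem hy)
  · rcases alternating_le_or_bot hα (N := ⁅alternatingGroup α, alternatingGroup α⁆)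
      (fun τ _ n hn => (inferInstance : (⁅alternatingGroup α, alternatingGroup α⁆ : Subgroup (Perm α)).Normal).conj_mem
        n hn τ) with e | e
    · exfalso
      refine alternating_not_comm hα fun σ hσ τ hτ => ?_
      have := Subgroup.commutator_mem_commutator hσ hτ
      rw [e, Subgroup.mem_bot] at this
      exact commutatorElement_eq_one_iff_mul_comm.1 this
    · exact e

/-- A subgroup normalised by the alternating group which is solvable is trivial. -/
theorem eq_bot_of_isSolvable (hα : 5 ≤ Fintype.card α) {N : Subgroup (Perm α)} [Group.IsSolvable N]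
    (h : ∀ τ ∈ alternatingGroup α, ∀ n ∈ N, τ * n * τ⁻¹ ∈ N) : N = ⊥ := by
  refine (alternating_le_or_bot hα h).resolve_right fun hle => ?_
  haveI := alternatingGroup.isSimpleGroup (α := α) (by simpa [Nat.card_eq_fintype_card] using hα)
  haveI : Group.IsSolvable (alternatingGroup α) :=
    solvable_of_solvable_injective (f := Subgroup.inclusion hle) (Subgroup.inclusion_injective hle)
  have hc := IsSimpleGroup.comm_iff_isSolvable.2 this
  exact alternating_not_comm hα fun σ hσ τ hτ => congrArg Subtype.val (hc ⟨σ, hσ⟩ ⟨τ, hτ⟩)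

theorem exists_alternating_map (hα : 5 ≤ Fintype.card α) {i x y : α} (hx : x ≠ i) (hy : y ≠ i) :
    ∃ σ ∈ alternatingGroup α, σ i = i ∧ σ x = y := by
  rcases eq_or_ne x y with rfl | hxy
  · exact ⟨1, one_mem _, rfl, rfl⟩
  obtain ⟨u, v, huv, hu1, hu2, hu3, hv1, hv2, hv3⟩ := exists_two_ne hα i x y
  refine ⟨swap u v * swap x y, ?_, ?_, ?_⟩
  · rw [mem_alternatingGroup, map_mul, sign_swap hxy, sign_swap huv]; decide
  · rw [Perm.mul_apply, swap_apply_of_ne_of_ne hx.symm hy.symm, swap_apply_of_ne_of_ne hu1.symm hv1.symm]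
  · rw [Perm.mul_apply, swap_apply_left, swap_apply_of_ne_of_ne hu3.symm hv3.symm]

theorem exists_alternating_map' (hα : 5 ≤ Fintype.card α) (x y : α) : ∃ σ ∈ alternatingGroup α, σ x = y := by
  obtain ⟨u, v, -, hu1, hu2, -, -⟩ := exists_two_ne hα x y x
  obtain ⟨σ, hσ, -, h⟩ := exists_alternating_map hα (i := u) (Ne.symm hu1) (Ne.symm hu2)
  exact ⟨σ, hσ, h⟩

/-- The stabiliser of a point. -/
def fixer (i : α) : Subgroup (Perm α) := MulAction.stabilizer (Perm α) i

theorem mem_fixer {i : α} {σ : Perm α} : σ ∈ fixer i ↔ σ i = i := Iff.rfl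

/-- Restriction of the stabiliser of a point to the other points. -/
def restr (i : α) : fixer i →* Perm {x // x ≠ i} where
  toFun σ := σ.1.subtypePerm fun x => by
    constructor
    · intro h e; exact h (by rw [e]; exact σ.2)
    · intro h e; exact h (σ.1.injective (e.trans σ.2.symm))
  map_one' := by ext; rfl
  map_mul' σ τ := by ext; rfl

theorem restr_injective (i : α) : Function.Injective (restr i) := by
  intro σ τ e
  refine Subtype.ext (Equiv.ext fun x => ?_)
  rcases eq_or_ne x i with rfl | hx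
  · exact σ.2.trans τ.2.symm
  · exact congrArg (fun p : Perm {x // x ≠ i} => (p ⟨x, hx⟩).1) e

theorem restr_ofSubtype (i : α) (τ : Perm {x // x ≠ i}) :
    ∃ σ : fixer i, restr i σ = τ ∧ Perm.sign σ.1 = Perm.sign τ := by
  refine ⟨⟨ofSubtype τ, mem_fixer.2 (ofSubtype_apply_of_not_mem τ (by simp))⟩, ?_, sign_ofSubtype τ⟩
  ext x
  exact congrArg Subtype.val (DFunLike.congr_fun (Perm.subtypePerm_ofSubtype τ) x)

end Cfsg.Lib.AltSuborbit
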