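import Cfsg.Agent.AltSuborbit.Main

/-!
The structure of the point stabiliser.
-/

set_option autoImplicit false
set_option linter.style.haveILetI false

namespace Cfsg.Lib.AltSuborbit

open Equiv
open scoped commutatorElement

variable {G : Type*} [Group G] [Finite G] {d : ℕ}

/-- A product with the sign homomorphisms. -/
abbrev signPair (d : ℕ) : Perm (Fin d) × Perm (Fin (d - 1)) →* ℤˣ :=
  (Perm.sign.comp (MonoidHom.fst (Perm (Fin d)) (Perm (Fin (d - 1))))) *
    (Perm.sign.comp (MonoidHom.snd (Perm (Fin d)) (Perm (Fin (d - 1)))))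

theorem units_int_cases (u : ℤˣ) : u = 1 ∨ u = -1 := Int.units_eq_one_or u

theorem Act.card_h_range_mul {A D K : Subgroup G} (P : Act d A D K) :
    Nat.card P.h.range * Nat.card K = Nat.card D := by
  rw [← Subgroup.index_ker, show P.h.ker = K.subgroupOf D by ext x; exact P.h_eq_one,
    ← Nat.card_congr (Subgroup.subgroupOfEquivOfLe P.hK).toEquiv]
  exact Subgroup.index_mul_card _

namespace Cfg

variable {A B K L : Subgroup G} (C : Cfg d A B K L)
include C

theorem structure_cases :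
    (C.P.f.range = alternatingGroup (Fin d) ∧
      Nonempty (A ≃* alternatingGroup (Fin d) × alternatingGroup (Fin (d - 1)))) ∨
    (C.P.f.range = ⊤ ∧
      (Nonempty (A ≃* Perm (Fin d) × Perm (Fin (d - 1))) ∨ Nonempty (A ≃* (signPair d).ker))) := by
  classical
  have hM := C.inter_eq_bot
  set h := C.Q.h with hh
  have h1iff : ∀ x : (B ⊓ A : Subgroup G), h x = 1 ↔ (x : G) ∈ L := fun x => C.Q.h_eq_one
  have hKD : K ≤ B ⊓ A := C.P.hK.trans (inf_comm A B).le
  have hLD : L ≤ B ⊓ A := C.Q.hK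
  have hnK : A ≤ Subgroup.normalizer (K : Set G) := C.P.normalizer_kernel
  have hnL : B ≤ Subgroup.normalizer (L : Set G) := C.Q.normalizer_kernel
  have h5 : 5 ≤ d - 1 := by have := C.hd; omega
  have hd2 : 2 ≤ d := by have := C.hd; omega
  have hKimg : alternatingGroup (Fin (d - 1)) ≤ (K.subgroupOf (B ⊓ A)).map h := by
    refine (image_cases h5 h C.Q.h_big hKD (inf_le_right.trans hnK)).resolve_left fun e => C.hK ?_
    exact le_bot_iff.1 (hM ▸ le_inf le_rfl fun x hx => (h1iff ⟨x, hKD hx⟩).1 (e _ hx))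
  have hcommKL : ∀ k ∈ K, ∀ l ∈ L, k * l = l * k := by
    intro k hk l hl
    refine commutatorElement_eq_one_iff_mul_comm.1 ?_
    have : ⁅k, l⁆ ∈ K ⊓ L := Subgroup.mem_inf.2 ⟨by
      have := mul_mem hk (conj_mem_of hnK (hLD hl).2 (inv_mem hk))
      simpa [commutatorElement_def, mul_assoc] using this,
      mul_mem (conj_mem_of hnL (hKD hk).1 hl) (inv_mem hl)⟩
    rwa [hM, Subgroup.mem_bot] at this
  set Z := A ⊓ Subgroup.centralizer (K : Set G) with hZ
  have hnZ : A ≤ Subgroup.normalizer (Z : Set G) := by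
    refine le_normalizer_of fun c hc x hx => Subgroup.mem_inf.2 ⟨A.mul_mem (A.mul_mem hc hx.1) (A.inv_mem hc), ?_⟩
    refine Subgroup.mem_centralizer_iff.2 fun e he => ?_
    have he' : c⁻¹ * e * c ∈ K := by simpa using conj_mem_of hnK (inv_mem hc) he
    have hx' := Subgroup.mem_centralizer_iff.1 hx.2 _ he'
    calc e * (c * x * c⁻¹) = c * ((c⁻¹ * e * c) * x) * c⁻¹ := by group
      _ = c * (x * (c⁻¹ * e * c)) * c⁻¹ := by rw [hx']
      _ = c * x * c⁻¹ * e := by group
  have hZD : ∀ x ∈ Z, x ∈ B → x ∈ L := by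
    intro x hx hxB
    refine (h1iff ⟨x, hxB, hx.1⟩).1 (eq_one_of_commute_alternating (five_le_card' C.hd) fun τ hτ => ?_)
    obtain ⟨k, hk, rfl⟩ := hKimg hτ
    exact Commute.map (Subtype.ext (Subgroup.mem_centralizer_iff.1 hx.2 _ hk).symm : Commute _ k) h
  have hLZ : L ≤ Z := fun l hl =>
    Subgroup.mem_inf.2 ⟨(hLD hl).2, Subgroup.mem_centralizer_iff.2 fun k hk => hcommKL k hk l hl⟩
  have hZimg : alternatingGroup (Fin d) ≤ (Z.subgroupOf A).map C.P.f := by
    refine (image_cases (by omega) C.P.f C.P.big inf_le_left hnZ).resolve_left fun e => C.hL ?_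
    refine le_bot_iff.1 (hM ▸ le_inf (fun x hx => ?_) le_rfl)
    exact (C.P.ker ⟨x, (hLD hx).2⟩).1 (e _ (hLZ hx))
  have hdec : ∀ a : A, ∃ δ : (B ⊓ A : Subgroup G), (a : G) * (δ : G)⁻¹ ∈ Z := by
    intro a
    obtain ⟨σ, hσ, hij⟩ := exists_alternating_map' (five_le_card C.hd) C.P.i (C.P.f a C.P.i)
    obtain ⟨c, hc, hcσ⟩ := hZimg hσ
    have hfix : C.P.f (c⁻¹ * a) C.P.i = C.P.i := by
      rw [map_mul, map_inv, hcσ, Perm.mul_apply, Perm.inv_eq_iff_eq, hij]
    have hm := (C.P.stab _).1 hfix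
    rw [Subgroup.coe_mul, InvMemClass.coe_inv] at hm
    refine ⟨⟨(c : G)⁻¹ * a, hm.2, hm.1⟩, ?_⟩
    rw [show (a : G) * ((c : G)⁻¹ * a)⁻¹ = c by group]
    exact hc
  choose δ hδ using hdec
  have hwd : ∀ (a : A) (e : (B ⊓ A : Subgroup G)), (a : G) * (e : G)⁻¹ ∈ Z → h (δ a) = h e := by
    intro a e he
    rw [← mul_inv_eq_one, ← map_inv, ← map_mul]
    refine (h1iff _).2 (hZD _ ?_ (δ a * e⁻¹).2.1)
    have := mul_mem (inv_mem (hδ a)) he
    simpa [mul_assoc] using this
  let χ : A →* Perm (Fin (d - 1)) := MonoidHom.mk' (fun a => h (δ a)) fun a b => by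
    rw [← map_mul]
    refine hwd _ _ ?_
    have h1 : (δ a : G) * ((b : G) * (δ b : G)⁻¹) * (δ a : G)⁻¹ ∈ Z := conj_mem_of hnZ (δ a).2.2 (hδ b)
    have := mul_mem (hδ a) h1
    simpa [mul_assoc] using this
  have hχ : ∀ (a : A) (e : (B ⊓ A : Subgroup G)), (a : G) * (e : G)⁻¹ ∈ Z → χ a = h e := hwd
  have hχD : ∀ (e : (B ⊓ A : Subgroup G)), χ ⟨e, e.2.2⟩ = h e := fun e => hχ _ e (by simp)
  have hχZ : ∀ (z : A), (z : G) ∈ Z → χ z = 1 := fun z hz => by
    rw [hχ z 1 (by simpa using hz), map_one]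
  let Θ : A →* Perm (Fin d) × Perm (Fin (d - 1)) := C.P.f.prod χ
  have hinj : Function.Injective Θ := by
    rw [injective_iff_map_eq_one]
    intro a ha
    have hf : C.P.f a = 1 := congrArg Prod.fst ha
    have hc : χ a = 1 := congrArg Prod.snd ha
    have haK := (C.P.ker a).1 hf
    have hcD := hχD ⟨a, hKD haK⟩
    rw [show (⟨(a : G), (hKD haK).2⟩ : A) = a from rfl, hc] at hcD
    have : (a : G) ∈ K ⊓ L := Subgroup.mem_inf.2 ⟨haK, (h1iff ⟨a, hKD haK⟩).1 hcD.symm⟩
    rw [hM, Subgroup.mem_bot] at this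
    exact Subtype.ext this
  -- the image contains the product of the alternating groups
  have halt : ∀ σ ∈ alternatingGroup (Fin d), ∀ τ ∈ alternatingGroup (Fin (d - 1)), (σ, τ) ∈ Θ.range := by
    intro σ hσ τ hτ
    obtain ⟨c, hc, rfl⟩ := hZimg hσ
    obtain ⟨k, hk, rfl⟩ := hKimg hτ
    refine ⟨c * ⟨k, k.2.2⟩, ?_⟩
    have hk1 : C.P.f ⟨k, k.2.2⟩ = 1 := (C.P.ker _).2 hk
    refine Prod.ext ?_ ?_
    · show C.P.f (c * ⟨k, k.2.2⟩) = C.P.f c
      rw [map_mul, hk1, mul_one]
    · show χ (c * ⟨k, k.2.2⟩) = h k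
      rw [map_mul, hχZ c hc, hχD, one_mul]
  have hKL : Nat.card K = Nat.card L := by
    obtain ⟨g, -, hg⟩ := C.conj
    rw [hg, Subgroup.card_map_of_injective (cj_injective g)]
  have hrange : Nat.card h.range = Nat.card C.P.h.range := by
    have e1 := C.P.card_h_range_mul
    have e2 := C.Q.card_h_range_mul
    have e3 : Nat.card (B ⊓ A : Subgroup G) = Nat.card (A ⊓ B : Subgroup G) := by rw [inf_comm]
    rw [e3, ← e1, ← hKL] at e2
    exact Nat.eq_of_mul_eq_mul_right Nat.card_pos e2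
  have hcard := C.P.card_h_range C.hd
  rw [← hrange] at hcard
  have hχrange : χ.range = h.range := by
    refine le_antisymm ?_ ?_
    · rintro _ ⟨a, rfl⟩
      exact ⟨δ a, rfl⟩
    · rintro _ ⟨e, rfl⟩
      exact ⟨⟨e, e.2.2⟩, hχD e⟩
  have hfac : d * (d - 1).factorial = d.factorial := Nat.mul_factorial_pred (by omega)
  have hfull : ∀ {n : ℕ} {H : Subgroup (Perm (Fin n))}, Nat.card H = n.factorial → H = ⊤ := fun h => by
    refine Subgroup.eq_top_of_card_eq _ ?_
    rw [h, Nat.card_perm, Nat.card_fin]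
  let e₀ : A ≃* Θ.range := MonoidHom.ofInjective hinj
  by_cases htop : C.P.f.range = ⊤
  · refine Or.inr ⟨htop, ?_⟩
    have hh : h.range = ⊤ := by
      refine hfull (Nat.eq_of_mul_eq_mul_right (by omega : 0 < d) ?_)
      rw [hcard, htop, Subgroup.card_top, Nat.card_perm, Nat.card_fin, ← hfac, mul_comm]
    -- signs
    have hadj : ∀ p : Perm (Fin d) × Perm (Fin (d - 1)), (∃ q ∈ Θ.range, Perm.sign q.1 = Perm.sign p.1 ∧
        Perm.sign q.2 = Perm.sign p.2) → p ∈ Θ.range := by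
      rintro p ⟨q, hq, h1, h2⟩
      rw [show p = (p.1 * q.1⁻¹, p.2 * q.2⁻¹) * q by ext <;> simp]
      refine mul_mem (halt _ ?_ _ ?_) hq
      · rw [Perm.mem_alternatingGroup, map_mul, map_inv, h1, mul_inv_cancel]
      · rw [Perm.mem_alternatingGroup, map_mul, map_inv, h2, mul_inv_cancel]
    haveI : Nontrivial (Fin d) := Fin.nontrivial_iff_two_le.2 hd2
    obtain ⟨σ₁, hσ₁⟩ := Perm.sign_surjective (Fin d) (-1)
    haveI : Nontrivial (Fin (d - 1)) := Fin.nontrivial_iff_two_le.2 (by omega)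
    obtain ⟨τ₁, hτ₁⟩ := Perm.sign_surjective (Fin (d - 1)) (-1)
    obtain ⟨a₁, ha₁⟩ : σ₁ ∈ C.P.f.range := htop ▸ Subgroup.mem_top _
    obtain ⟨a₂, ha₂⟩ : τ₁ ∈ χ.range := by rw [hχrange, hh]; exact Subgroup.mem_top _
    by_cases heq : ∀ a : A, Perm.sign (C.P.f a) = Perm.sign (χ a)
    · refine Or.inr ⟨e₀.trans (MulEquiv.subgroupCongr ?_)⟩
      refine le_antisymm ?_ fun p hp => ?_
      · rintro _ ⟨a, rfl⟩
        show Perm.sign (C.P.f a) * Perm.sign (χ a) = 1
        rw [heq a, Int.units_mul_self]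
      · have hps : Perm.sign p.1 = Perm.sign p.2 := by
          have hp' : Perm.sign p.1 * Perm.sign p.2 = 1 := hp
          rw [mul_eq_one_iff_eq_inv, Int.units_inv_eq_self] at hp'
          exact hp'
        refine hadj p ?_
        rcases units_int_cases (Perm.sign p.1) with e | e
        · exact ⟨1, one_mem _, by simp [e], by simp [← hps, e]⟩
        · refine ⟨_, ⟨a₁, rfl⟩, ?_, ?_⟩
          · show Perm.sign (C.P.f a₁) = _
            rw [ha₁, hσ₁, e]
          · show Perm.sign (χ a₁) = _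
            rw [← heq, ha₁, hσ₁, ← hps, e]
    · push Not at heq
      obtain ⟨b, hb⟩ := heq
      refine Or.inl ⟨e₀.trans ((MulEquiv.subgroupCongr (eq_top_iff.2 fun p _ => hadj p ?_)).trans Subgroup.topEquiv)⟩
      have hΘ : ∀ a, Perm.sign (Θ a).1 = Perm.sign (C.P.f a) ∧ Perm.sign (Θ a).2 = Perm.sign (χ a) :=
        fun a => ⟨rfl, rfl⟩
      suffices H : ∀ u v : ℤˣ, ∃ a : A, Perm.sign (C.P.f a) = u ∧ Perm.sign (χ a) = v by
        obtain ⟨a, h1, h2⟩ := H (Perm.sign p.1) (Perm.sign p.2)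
        exact ⟨_, ⟨a, rfl⟩, h1, h2⟩
      intro u v
      have s1 : Perm.sign (C.P.f a₁) = -1 := by rw [ha₁, hσ₁]
      have s2 : Perm.sign (χ a₂) = -1 := by rw [ha₂, hτ₁]
      rcases units_int_cases u with rfl | rfl <;> rcases units_int_cases v with rfl | rfl <;>
        rcases units_int_cases (Perm.sign (C.P.f b)) with b1 | b1 <;>
        rcases units_int_cases (Perm.sign (χ b)) with b2 | b2 <;>
        rcases units_int_cases (Perm.sign (χ a₁)) with b3 | b3 <;>
        rcases units_int_cases (Perm.sign (C.P.f a₂)) with b4 | b4 <;>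
        first
        | exact absurd (b1.trans b2.symm) hb
        | exact ⟨b, b1, b2⟩
        | exact ⟨a₁, s1, b3⟩
        | exact ⟨a₂, b4, s2⟩
        | (refine ⟨1, ?_, ?_⟩ <;> simp only [map_one] <;> done)
        | (refine ⟨b * a₁, ?_, ?_⟩ <;> simp only [map_mul, s1, b1, b2, b3, one_mul, mul_one, Int.units_mul_self] <;> done)
        | (refine ⟨b * a₂, ?_, ?_⟩ <;> simp only [map_mul, s2, b1, b2, b4, one_mul, mul_one, Int.units_mul_self] <;> done)
  · have hidx : C.P.f.range = alternatingGroup (Fin d) := by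
      haveI : Nontrivial (Fin d) := Fin.nontrivial_iff_two_le.2 hd2
      refine (Equiv.Perm.eq_alternatingGroup_of_index_eq_two ?_)
      have h1 := Subgroup.index_dvd_of_le C.P.big
      rw [alternatingGroup.index_eq_two] at h1
      exact ((Nat.dvd_prime Nat.prime_two).1 h1).resolve_left fun e => htop (Subgroup.index_eq_one.1 e)
    refine Or.inl ⟨hidx, ?_⟩
    have hh : h.range = alternatingGroup (Fin (d - 1)) := by
      refine (Subgroup.eq_of_le_of_card_ge C.Q.h_big ?_).symm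
      have h1 := two_mul_card_alt (n := d) hd2
      have h2 := two_mul_card_alt (n := d - 1) (by omega)
      rw [hidx] at hcard
      refine le_of_eq (Nat.eq_of_mul_eq_mul_right (by omega : 0 < 2 * d) ?_)
      calc Nat.card h.range * (2 * d) = 2 * (Nat.card h.range * d) := by ring
        _ = d * (d - 1).factorial := by rw [hcard, h1, hfac]
        _ = Nat.card (alternatingGroup (Fin (d - 1))) * (2 * d) := by rw [← h2]; ring
    have hr : Θ.range = (alternatingGroup (Fin d)).prod (alternatingGroup (Fin (d - 1))) := by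
      ext p
      refine ⟨?_, fun hp => halt p.1 (Subgroup.mem_prod.1 hp).1 p.2 (Subgroup.mem_prod.1 hp).2⟩
      rintro ⟨a, rfl⟩
      refine Subgroup.mem_prod.2 ⟨?_, ?_⟩
      · show C.P.f a ∈ alternatingGroup (Fin d)
        rw [← hidx]
        exact ⟨a, rfl⟩
      · show χ a ∈ alternatingGroup (Fin (d - 1))
        rw [← hh, ← hχrange]
        exact ⟨a, rfl⟩
    exact ⟨e₀.trans ((MulEquiv.subgroupCongr hr).trans (Subgroup.prodEquiv _ _))⟩

end Cfg

end Cfsg.Lib.AltSuborbit
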